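import Groth.Agent.PullRing.Basic
import Groth.Prelude.Def_ModSite2

/-!
The inverse image of a sheaf of rings under an exact inverse image of sheaves of sets: sections come locally from
the source and relations are witnessed locally.
-/

set_option backward.isDefEq.respectTransparency false
set_option backward.isDefEq.respectTransparency.types false
set_option linter.style.haveILetI false
set_option autoImplicit false
set_option maxHeartbeats 1000000

universe u

namespace Groth.Agent.PullRing

open CategoryTheory Category Limits Opposite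
open Groth.Agent.PullFlat

variable {C D : Type u} [SmallCategory C] [SmallCategory D] {J : GrothendieckTopology C} {K : GrothendieckTopology D}
  (fn : D ⥤ C) [fn.IsContinuous K J] [PreservesFiniteLimits (pb J K fn)] (R : Sheaf K CommRingCat.{u})

/-- the underlying sheaf of sets -/
noncomputable abbrev setSh : Sheaf K (Type u) := (sheafCompose K (forget CommRingCat.{u})).obj R

variable (J) in
/-- sections of the inverse image of the underlying sets -/
noncomputable abbrev Sec (U : C) : Type u := (inv J fn (setSh R)).obj.obj (op U)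

/-- the class of a section of the ring -/
noncomputable abbrev qR {U : C} {W : D} (k : U ⟶ fn.obj W) (m : R.obj.obj (op W)) : Sec J fn R U := q fn (setSh R) k m

variable {fn R}

/-- addition -/
abbrev addOp (W : D) (a b : R.obj.obj (op W)) : R.obj.obj (op W) := a + b

/-- multiplication -/
abbrev mulOp (W : D) (a b : R.obj.obj (op W)) : R.obj.obj (op W) := a * b

/-- negation -/
abbrev negOp (W : D) (a _b : R.obj.obj (op W)) : R.obj.obj (op W) := -a

lemma addN {W W' : D} (r : W' ⟶ W) (a b : (setSh R).obj.obj (op W)) :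
    (setSh R).obj.map r.op (addOp (R := R) W a b) = addOp (R := R) W' ((setSh R).obj.map r.op a) ((setSh R).obj.map r.op b) :=
  (R.obj.map r.op).hom.map_add a b

lemma mulN {W W' : D} (r : W' ⟶ W) (a b : (setSh R).obj.obj (op W)) :
    (setSh R).obj.map r.op (mulOp (R := R) W a b) = mulOp (R := R) W' ((setSh R).obj.map r.op a) ((setSh R).obj.map r.op b) :=
  (R.obj.map r.op).hom.map_mul a b

lemma negN {W W' : D} (r : W' ⟶ W) (a b : (setSh R).obj.obj (op W)) :
    (setSh R).obj.map r.op (negOp (R := R) W a b) = negOp (R := R) W' ((setSh R).obj.map r.op a) ((setSh R).obj.map r.op b) :=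
  (R.obj.map r.op).hom.map_neg a

noncomputable instance instAdd (U : C) : Add (Sec J fn R U) :=
  ⟨binop (G := setSh R) (fun W a b => addOp (R := R) W a b) addN⟩

noncomputable instance instMul (U : C) : Mul (Sec J fn R U) :=
  ⟨binop (G := setSh R) (fun W a b => mulOp (R := R) W a b) mulN⟩

noncomputable instance instNeg (U : C) : Neg (Sec J fn R U) :=
  ⟨fun s => binop (G := setSh R) (fun W a b => negOp (R := R) W a b) negN s s⟩

noncomputable instance instZero (U : C) : Zero (Sec J fn R U) :=
  ⟨(exists_const (G := setSh R) (fun W => (0 : R.obj.obj (op W))) (fun r => map_zero (R.obj.map r.op).hom) U).choose⟩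

noncomputable instance instOne (U : C) : One (Sec J fn R U) :=
  ⟨(exists_const (G := setSh R) (fun W => (1 : R.obj.obj (op W))) (fun r => map_one (R.obj.map r.op).hom) U).choose⟩

lemma qR_add {U : C} {W : D} (k : U ⟶ fn.obj W) (a b : R.obj.obj (op W)) :
    qR (J := J) fn R k a + qR fn R k b = qR fn R k (a + b) := binop_q _ addN k a b

lemma qR_mul {U : C} {W : D} (k : U ⟶ fn.obj W) (a b : R.obj.obj (op W)) :
    qR (J := J) fn R k a * qR fn R k b = qR fn R k (a * b) := binop_q _ mulN k a b

lemma qR_neg {U : C} {W : D} (k : U ⟶ fn.obj W) (a : R.obj.obj (op W)) :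
    -qR (J := J) fn R k a = qR fn R k (-a) := binop_q _ negN k a a

lemma res_zero {U V : C} (g : V ⟶ U) {W : D} (k : V ⟶ fn.obj W) :
    res _ g (0 : Sec J fn R U) = qR fn R k 0 :=
  (exists_const (G := setSh R) (fun W => (0 : R.obj.obj (op W))) (fun r => map_zero (R.obj.map r.op).hom) U).choose_spec g k

lemma res_one {U V : C} (g : V ⟶ U) {W : D} (k : V ⟶ fn.obj W) :
    res _ g (1 : Sec J fn R U) = qR fn R k 1 :=
  (exists_const (G := setSh R) (fun W => (1 : R.obj.obj (op W))) (fun r => map_one (R.obj.map r.op).hom) U).choose_spec g k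

lemma qR_zero {U : C} {W : D} (k : U ⟶ fn.obj W) : qR (J := J) fn R k 0 = 0 := by
  rw [← res_zero (𝟙 U) k, res_id]

lemma qR_one {U : C} {W : D} (k : U ⟶ fn.obj W) : qR (J := J) fn R k 1 = 1 := by
  rw [← res_one (𝟙 U) k, res_id]

lemma res_add {U V : C} (g : V ⟶ U) (s t : Sec J fn R U) : res _ g (s + t) = res _ g s + res _ g t :=
  binop_res _ addN g s t

lemma res_mul {U V : C} (g : V ⟶ U) (s t : Sec J fn R U) : res _ g (s * t) = res _ g s * res _ g t :=
  binop_res _ mulN g s t

lemma res_neg {U V : C} (g : V ⟶ U) (s : Sec J fn R U) : res _ g (-s) = -res _ g s :=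
  binop_res _ negN g s s

lemma loc_rep₃ {U : C} (s t v : Sec J fn R U) :
    Loc J U fun U' g => ∃ (W : D) (k : U' ⟶ fn.obj W) (a b c : R.obj.obj (op W)),
      res _ g s = qR fn R k a ∧ res _ g t = qR fn R k b ∧ res _ g v = qR fn R k c := by
  refine (loc_rep₂ (G := setSh R) s t).bind ?_
  rintro U₁ g ⟨W₁, k₁, a, b, ha, hb⟩
  refine (loc_rep (G := setSh R) (res _ g v)).bind ?_
  rintro U₂ g' ⟨W₂, k₂, c, hc⟩
  refine (loc_pair (K := K) fn (g' ≫ k₁) k₂).mono ?_
  rintro U₃ g'' ⟨W, k, l₁, l₂, e₁, e₂⟩
  refine ⟨W, k, (R.obj.map l₁.op).hom a, (R.obj.map l₁.op).hom b, (R.obj.map l₂.op).hom c, ?_, ?_, ?_⟩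
  · refine Eq.trans ?_ (q_map (G := setSh R) k l₁ a).symm
    rw [e₁, ← res_q, ← res_q, ← ha]
    simp only [res_comp, assoc]
  · refine Eq.trans ?_ (q_map (G := setSh R) k l₁ b).symm
    rw [e₁, ← res_q, ← res_q, ← hb]
    simp only [res_comp, assoc]
  · refine Eq.trans ?_ (q_map (G := setSh R) k l₂ c).symm
    rw [e₂, ← res_q, ← hc]
    simp only [res_comp, assoc]

lemma ext₃ {U : C} (x y : Sec J fn R U) (s t v : Sec J fn R U)
    (h : ∀ ⦃V : C⦄ (g : V ⟶ U) {W : D} (k : V ⟶ fn.obj W) (a b c : R.obj.obj (op W)),
      res _ g s = qR fn R k a → res _ g t = qR fn R k b → res _ g v = qR fn R k c → res _ g x = res _ g y) :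
    x = y :=
  sext ((loc_rep₃ s t v).mono fun _ g ⟨_, k, a, b, c, ha, hb, hc⟩ => h g k a b c ha hb hc)

noncomputable instance instCommRing (U : C) : CommRing (Sec J fn R U) where
  add_assoc s t v := ext₃ _ _ s t v fun _ g _ k a b c ha hb hc => by
    simp only [res_add, ha, hb, hc, qR_add, add_assoc]
  zero_add s := ext₃ _ _ s s s fun _ g _ k a b c ha _ _ => by
    simp only [res_add, ha, res_zero g k, qR_add, zero_add]
  add_zero s := ext₃ _ _ s s s fun _ g _ k a b c ha _ _ => by
    simp only [res_add, ha, res_zero g k, qR_add, add_zero]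
  nsmul := nsmulRec
  zsmul := zsmulRec
  neg_add_cancel s := ext₃ _ _ s s s fun _ g _ k a b c ha _ _ => by
    simp only [res_add, res_neg, ha, res_zero g k, qR_neg, qR_add, neg_add_cancel]
  add_comm s t := ext₃ _ _ s t t fun _ g _ k a b c ha hb _ => by
    simp only [res_add, ha, hb, qR_add, add_comm a b]
  mul_assoc s t v := ext₃ _ _ s t v fun _ g _ k a b c ha hb hc => by
    simp only [res_mul, ha, hb, hc, qR_mul, mul_assoc]
  one_mul s := ext₃ _ _ s s s fun _ g _ k a b c ha _ _ => by
    simp only [res_mul, ha, res_one g k, qR_mul, one_mul]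
  mul_one s := ext₃ _ _ s s s fun _ g _ k a b c ha _ _ => by
    simp only [res_mul, ha, res_one g k, qR_mul, mul_one]
  zero_mul s := ext₃ _ _ s s s fun _ g _ k a b c ha _ _ => by
    simp only [res_mul, ha, res_zero g k, qR_mul, zero_mul]
  mul_zero s := ext₃ _ _ s s s fun _ g _ k a b c ha _ _ => by
    simp only [res_mul, ha, res_zero g k, qR_mul, mul_zero]
  left_distrib s t v := ext₃ _ _ s t v fun _ g _ k a b c ha hb hc => by
    simp only [res_mul, res_add, ha, hb, hc, qR_mul, qR_add, mul_add]
  right_distrib s t v := ext₃ _ _ s t v fun _ g _ k a b c ha hb hc => by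
    simp only [res_mul, res_add, ha, hb, hc, qR_mul, qR_add, add_mul]
  mul_comm s t := ext₃ _ _ s t t fun _ g _ k a b c ha hb _ => by
    simp only [res_mul, ha, hb, qR_mul, mul_comm a b]

lemma res_zero' {U V : C} (g : V ⟶ U) : res _ g (0 : Sec J fn R U) = 0 :=
  sext ((loc_nonempty (K := K) fn V).mono fun V' g' ⟨W, ⟨k⟩⟩ => by rw [res_comp, res_zero _ k, res_zero _ k])

lemma res_one' {U V : C} (g : V ⟶ U) : res _ g (1 : Sec J fn R U) = 1 :=
  sext ((loc_nonempty (K := K) fn V).mono fun V' g' ⟨W, ⟨k⟩⟩ => by rw [res_comp, res_one _ k, res_one _ k])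

variable (J fn R)

/-- restriction as a ring map -/
noncomputable def resHom {U V : C} (g : V ⟶ U) : Sec J fn R U →+* Sec J fn R V where
  toFun := res _ g
  map_one' := res_one' g
  map_mul' := res_mul g
  map_zero' := res_zero' g
  map_add' := res_add g

/-- the presheaf of rings -/
noncomputable def ringPresheaf : Cᵒᵖ ⥤ CommRingCat.{u} where
  obj U := CommRingCat.of (Sec J fn R U.unop)
  map g := CommRingCat.ofHom (resHom J fn R g.unop)
  map_id U := CommRingCat.hom_ext (RingHom.ext fun s => res_id _ s)
  map_comp g h := CommRingCat.hom_ext (RingHom.ext fun s => (res_comp _ _ _ _).symm)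

/-- the sheaf of rings -/
noncomputable def ringInv : Sheaf J CommRingCat.{u} :=
  ⟨ringPresheaf J fn R, by
    rw [Presheaf.isSheaf_iff_isSheaf_forget _ _ (forget CommRingCat.{u})]
    exact Presheaf.isSheaf_of_iso_iff
      (NatIso.ofComponents (fun U => Iso.refl _) fun g => rfl :
        (inv J fn (setSh R)).obj ≅ ringPresheaf J fn R ⋙ forget CommRingCat.{u}) |>.1 (inv J fn (setSh R)).2⟩

/-- the canonical map -/
noncomputable def toPush : R ⟶ (fn.sheafPushforwardContinuous CommRingCat.{u} K J).obj (ringInv J fn R) :=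
  ⟨{ app := fun W => CommRingCat.ofHom
      { toFun := fun m => qR fn R (𝟙 (fn.obj W.unop)) m
        map_one' := qR_one _
        map_mul' := fun a b => (qR_mul _ a b).symm
        map_zero' := qR_zero _
        map_add' := fun a b => (qR_add _ a b).symm }
     naturality := fun W W' r => CommRingCat.hom_ext (RingHom.ext fun m => by
      show qR fn R (𝟙 _) ((R.obj.map r).hom m) = res _ (fn.map r.unop) (qR fn R (𝟙 _) m)
      refine (q_map (G := setSh R) _ r.unop m).trans (Eq.trans ?_ (res_q (G := setSh R) (fn.map r.unop) (𝟙 _) m).symm)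
      simp) }⟩

section Compare

variable {J fn R}
variable (L : Sheaf J CommRingCat.{u}) (η : R ⟶ (fn.sheafPushforwardContinuous CommRingCat.{u} K J).obj L)

/-- the image of a section under a map into a direct image -/
noncomputable def im {U : C} {W : D} (k : U ⟶ fn.obj W) (m : R.obj.obj (op W)) : L.obj.obj (op U) :=
  (L.obj.map k.op).hom ((η.hom.app (op W)).hom m)

lemma im_res {U V : C} (g : V ⟶ U) {W : D} (k : U ⟶ fn.obj W) (m : R.obj.obj (op W)) :
    (L.obj.map g.op).hom (im L η k m) = im L η (g ≫ k) m :=
  (ConcreteCategory.congr_hom (L.obj.map_comp k.op g.op) _).symm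

lemma im_map {U : C} {W W' : D} (k : U ⟶ fn.obj W') (r : W' ⟶ W) (m : R.obj.obj (op W)) :
    im L η k ((R.obj.map r.op).hom m) = im L η (k ≫ fn.map r) m := by
  rw [← im_res]
  refine congrArg (L.obj.map k.op).hom ?_
  exact (ConcreteCategory.congr_hom (η.hom.naturality r.op) m).trans rfl

variable (J fn R) in
/-- the sheaf-level map of sets to `L` -/
noncomputable def toSet : inv J fn (setSh R) ⟶ (sheafCompose J (forget CommRingCat.{u})).obj L :=
  ((fn.sheafAdjunctionContinuous (Type u) K J).homEquiv (setSh R) _).symm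
    ⟨{ app := fun W => ↾fun m => (η.hom.app W).hom m
       naturality := fun W W' r => by
        ext m
        exact ConcreteCategory.congr_hom (η.hom.naturality r) m }⟩

lemma toSet_q {U : C} {W : D} (k : U ⟶ fn.obj W) (m : R.obj.obj (op W)) :
    (toSet J fn R L η).hom.app (op U) (qR fn R k m) = im L η k m := by
  have h := Equiv.apply_symm_apply ((fn.sheafAdjunctionContinuous (Type u) K J).homEquiv (setSh R)
    ((sheafCompose J (forget CommRingCat.{u})).obj L))
    ⟨{ app := fun W => ↾fun m => (η.hom.app W).hom m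
       naturality := fun W W' r => by
        ext m
        exact ConcreteCategory.congr_hom (η.hom.naturality r) m }⟩
  rw [Adjunction.homEquiv_unit] at h
  have h' := ConcreteCategory.congr_hom (congrArg (fun τ : setSh R ⟶ _ => τ.hom.app (op W)) h) m
  refine (NatTrans.naturality_apply (toSet J fn R L η).hom k.op _).trans ?_
  exact congrArg (L.obj.map k.op).hom h'

/-- the comparison map of sheaves of rings -/
noncomputable def toRing : ringInv J fn R ⟶ L :=
  ⟨{ app := fun U => CommRingCat.ofHom
      { toFun := fun s => (toSet J fn R L η).hom.app U s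
        map_one' := by
          refine sext (F := (sheafCompose J (forget CommRingCat.{u})).obj L) ((loc_nonempty (K := K) fn U.unop).mono ?_)
          rintro V g ⟨W, ⟨k⟩⟩
          show (L.obj.map g.op).hom _ = (L.obj.map g.op).hom 1
          rw [show (L.obj.map g.op).hom ((toSet J fn R L η).hom.app U (1 : Sec J fn R U.unop)) = _ from
            (NatTrans.naturality_apply (toSet J fn R L η).hom g.op _).symm,
            show (inv J fn (setSh R)).obj.map g.op (1 : Sec J fn R U.unop) = _ from res_one g k, toSet_q, map_one]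
          simp [im]
        map_mul' := fun s t => by
          refine sext (F := (sheafCompose J (forget CommRingCat.{u})).obj L) ((loc_rep₂ (G := setSh R) s t).mono ?_)
          rintro V g ⟨W, k, a, b, ha, hb⟩
          let τ : ∀ V, Sec J fn R V → L.obj.obj (op V) := fun V x => (toSet J fn R L η).hom.app (op V) x
          have key : ∀ x, (L.obj.map g.op).hom (τ U.unop x) = τ V (res _ g x) := fun x =>
            (NatTrans.naturality_apply (toSet J fn R L η).hom g.op x).symm
          have hτ : ∀ m, τ V (qR fn R k m) = im L η k m := toSet_q L η k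
          show (L.obj.map g.op).hom (τ U.unop (s * t)) = (L.obj.map g.op).hom (τ U.unop s * τ U.unop t)
          rw [key, res_mul, ha, hb, map_mul, key, key, ha, hb, qR_mul, hτ, hτ, hτ]
          simp [im]
        map_zero' := by
          refine sext (F := (sheafCompose J (forget CommRingCat.{u})).obj L) ((loc_nonempty (K := K) fn U.unop).mono ?_)
          rintro V g ⟨W, ⟨k⟩⟩
          show (L.obj.map g.op).hom _ = (L.obj.map g.op).hom 0
          rw [show (L.obj.map g.op).hom ((toSet J fn R L η).hom.app U (0 : Sec J fn R U.unop)) = _ from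
            (NatTrans.naturality_apply (toSet J fn R L η).hom g.op _).symm,
            show (inv J fn (setSh R)).obj.map g.op (0 : Sec J fn R U.unop) = _ from res_zero g k, toSet_q, map_zero]
          simp [im]
        map_add' := fun s t => by
          refine sext (F := (sheafCompose J (forget CommRingCat.{u})).obj L) ((loc_rep₂ (G := setSh R) s t).mono ?_)
          rintro V g ⟨W, k, a, b, ha, hb⟩
          let τ : ∀ V, Sec J fn R V → L.obj.obj (op V) := fun V x => (toSet J fn R L η).hom.app (op V) x
          have key : ∀ x, (L.obj.map g.op).hom (τ U.unop x) = τ V (res _ g x) := fun x =>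
            (NatTrans.naturality_apply (toSet J fn R L η).hom g.op x).symm
          have hτ : ∀ m, τ V (qR fn R k m) = im L η k m := toSet_q L η k
          show (L.obj.map g.op).hom (τ U.unop (s + t)) = (L.obj.map g.op).hom (τ U.unop s + τ U.unop t)
          rw [key, res_add, ha, hb, map_add, key, key, ha, hb, qR_add, hτ, hτ, hτ]
          simp [im] }
     naturality := fun U V g => CommRingCat.hom_ext (RingHom.ext fun s =>
      NatTrans.naturality_apply (toSet J fn R L η).hom g s) }⟩

lemma toRing_q {U : C} {W : D} (k : U ⟶ fn.obj W) (m : R.obj.obj (op W)) :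
    ((toRing L η).hom.app (op U)).hom (qR fn R k m) = im L η k m :=
  toSet_q L η k m

end Compare

section Main

variable {O_C : Sheaf J CommRingCat.{u}}

/-- the unit of the inverse image of rings -/
noncomputable abbrev unitR : R ⟶ (fn.sheafPushforwardContinuous CommRingCat.{u} K J).obj
    ((fn.sheafPullback CommRingCat.{u} K J).obj R) :=
  (fn.sheafAdjunctionContinuous CommRingCat.{u} K J).unit.app R

/-- the comparison in the other direction -/
noncomputable def fromInv : (fn.sheafPullback CommRingCat.{u} K J).obj R ⟶ ringInv J fn R :=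
  ((fn.sheafAdjunctionContinuous CommRingCat.{u} K J).homEquiv _ _).symm (toPush J fn R)

lemma fromInv_im {U : C} {W : D} (k : U ⟶ fn.obj W) (m : R.obj.obj (op W)) :
    ((fromInv J fn R).hom.app (op U)).hom (im _ (unitR J fn R) k m) = qR fn R k m := by
  have h := Equiv.apply_symm_apply ((fn.sheafAdjunctionContinuous CommRingCat.{u} K J).homEquiv _ _) (toPush J fn R)
  rw [Adjunction.homEquiv_unit] at h
  have h' := ConcreteCategory.congr_hom (congrArg (fun τ : R ⟶ _ => τ.hom.app (op W)) h) m
  refine (NatTrans.naturality_apply (fromInv J fn R).hom k.op _).trans ?_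
  refine (congrArg ((ringInv J fn R).obj.map k.op).hom h').trans ?_
  show res _ k (qR fn R (𝟙 _) m) = _
  exact (res_q (G := setSh R) k _ m).trans (by simp)

lemma fromInv_toRing :
    fromInv J fn R ≫ toRing _ (unitR J fn R) = 𝟙 _ := by
  apply ((fn.sheafAdjunctionContinuous CommRingCat.{u} K J).homEquiv _ _).injective
  rw [Adjunction.homEquiv_unit, Adjunction.homEquiv_unit, CategoryTheory.Functor.map_id]
  refine Eq.trans ?_ (Category.comp_id _).symm
  refine Sheaf.hom_ext (NatTrans.ext (funext fun W => CommRingCat.hom_ext (RingHom.ext fun m => ?_)))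
  have h1 : (unitR J fn R).hom.app W m = im _ (unitR J fn R) (𝟙 _) m := by simp [im]
  show ((toRing _ (unitR J fn R)).hom.app _).hom (((fromInv J fn R).hom.app _).hom ((unitR J fn R).hom.app W m)) = _
  rw [h1]
  exact (congrArg _ (fromInv_im J fn R (𝟙 (fn.obj W.unop)) m)).trans (toRing_q _ _ _ _)

/-- sections of the inverse image of rings come locally from the source -/
theorem invRing_loc_surj {U : C} (x : ((fn.sheafPullback CommRingCat.{u} K J).obj R).obj.obj (op U)) :
    Loc J U fun U' g => ∃ (W : D) (k : U' ⟶ fn.obj W) (m : R.obj.obj (op W)),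
      (((fn.sheafPullback CommRingCat.{u} K J).obj R).obj.map g.op).hom x = im _ (unitR J fn R) k m := by
  refine (loc_rep (G := setSh R) (((fromInv J fn R).hom.app (op U)).hom x)).mono ?_
  rintro U' g ⟨W, k, m, hm⟩
  refine ⟨W, k, m, ?_⟩
  rw [← toRing_q]
  refine Eq.trans ?_ (congrArg _ hm)
  refine Eq.trans ?_ (NatTrans.naturality_apply (toRing _ (unitR J fn R)).hom g.op _).symm
  refine congrArg _ ?_
  exact (ConcreteCategory.congr_hom (congrArg (fun τ : (fn.sheafPullback CommRingCat.{u} K J).obj R ⟶ _ =>
    τ.hom.app (op U)) (fromInv_toRing J fn R)) x).symm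

/-- vanishing in the inverse image of rings is witnessed locally -/
theorem invRing_loc_inj {U : C} {W : D} (k : U ⟶ fn.obj W) (m m' : R.obj.obj (op W))
    (h : im _ (unitR J fn R) k m = im _ (unitR J fn R) k m') :
    Loc J U fun U' g => ∃ (W' : D) (r : W' ⟶ W) (k' : U' ⟶ fn.obj W'),
      k' ≫ fn.map r = g ≫ k ∧ (R.obj.map r.op).hom m = (R.obj.map r.op).hom m' := by
  refine loc_inj (G := setSh R) k m m' ?_
  have h' := congrArg ((fromInv J fn R).hom.app (op U)).hom h
  rwa [fromInv_im, fromInv_im] at h'

end Main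

end Groth.Agent.PullRing
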