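import Groth.Agent.PullFlat.Local

/-!
Sections of exact inverse images of sheaves of sets: equality is witnessed locally, operations descend.
-/

set_option backward.isDefEq.respectTransparency false
set_option backward.isDefEq.respectTransparency.types false
set_option linter.style.haveILetI false
set_option autoImplicit false
set_option maxHeartbeats 1000000

universe u

namespace Groth.Agent.PullRing

open CategoryTheory Category Limits Opposite
open Groth.Agent.PullFlat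

section Sect

variable {C : Type u} [SmallCategory C] {J : GrothendieckTopology C} (F : Sheaf J (Type u))

/-- restriction -/
abbrev res {U V : C} (g : V ⟶ U) (s : F.obj.obj (op U)) : F.obj.obj (op V) := F.obj.map g.op s

lemma res_comp {U V W : C} (g : V ⟶ U) (h : W ⟶ V) (s : F.obj.obj (op U)) :
    res F h (res F g s) = res F (h ≫ g) s := by
  simp [res]

lemma res_id {U : C} (s : F.obj.obj (op U)) : res F (𝟙 U) s = s := by
  simp [res]

variable {F}

lemma sext {U : C} {s t : F.obj.obj (op U)} (h : Loc J U fun _ g => res F g s = res F g t) : s = t := by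
  obtain ⟨S, hS, hS'⟩ := h
  exact (((isSheaf_iff_isSheaf_of_type J F.obj).1 F.2) S hS).isSeparatedFor.ext fun U' g hg => hS' g hg

lemma sglue {U : C} {P : ∀ ⦃V : C⦄, (V ⟶ U) → F.obj.obj (op V) → Prop} (hex : Loc J U fun _ g => ∃ x, P g x)
    (hres : ∀ ⦃V W : C⦄ (g : V ⟶ U) (h : W ⟶ V) (x : F.obj.obj (op V)), P g x → P (h ≫ g) (res F h x))
    (huniq : ∀ ⦃V : C⦄ (g : V ⟶ U) (x y : F.obj.obj (op V)), P g x → P g y → x = y) :
    ∃ s : F.obj.obj (op U), Loc J U fun _ g => P g (res F g s) := by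
  obtain ⟨S, hS, hS'⟩ := hex
  choose x hx using hS'
  obtain ⟨s, hs, -⟩ := ((isSheaf_iff_isSheaf_of_type J F.obj).1 F.2) S hS (fun V g hg => x g hg) (by
    intro V₁ V₂ W g₁ g₂ f₁ f₂ h₁ h₂ e
    exact huniq (g₁ ≫ f₁) _ _ (hres f₁ g₁ _ (hx f₁ h₁)) (by rw [e]; exact hres f₂ g₂ _ (hx f₂ h₂)))
  exact ⟨s, S, hS, fun V g hg => by show P g (res F g s); rw [show res F g s = x g hg from hs g hg]; exact hx g hg⟩

end Sect

variable {C D : Type u} [SmallCategory C] [SmallCategory D] {J : GrothendieckTopology C} {K : GrothendieckTopology D}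
  (fn : D ⥤ C) [fn.IsContinuous K J] (G : Sheaf K (Type u))

variable (J) in
/-- the inverse image -/
noncomputable abbrev inv : Sheaf J (Type u) := (pb J K fn).obj G

/-- the section of the inverse image given by a section over an object -/
noncomputable def q {U : C} {W : D} (k : U ⟶ fn.obj W) (m : G.obj.obj (op W)) : (inv J fn G).obj.obj (op U) :=
  res (inv J fn G) k (ev J K fn G W m)

variable {fn G}

lemma res_q {U U' : C} (g : U' ⟶ U) {W : D} (k : U ⟶ fn.obj W) (m : G.obj.obj (op W)) :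
    res (inv J fn G) g (q fn G k m) = q (J := J) fn G (g ≫ k) m :=
  res_comp _ _ _ _

lemma q_map {U : C} {W W' : D} (k : U ⟶ fn.obj W') (r : W' ⟶ W) (m : G.obj.obj (op W)) :
    q (J := J) fn G k (G.obj.map r.op m) = q fn G (k ≫ fn.map r) m := by
  simp only [q, ← ev_res]
  exact res_comp _ _ _ _

lemma loc_rep {U : C} (s : (inv J fn G).obj.obj (op U)) :
    Loc J U fun U' g => ∃ (W : D) (k : U' ⟶ fn.obj W) (m : G.obj.obj (op W)), res _ g s = q fn G k m :=
  (pb_loc_surj fn G s).mono fun _ _ ⟨W, k, m, h⟩ => ⟨W, k, m, h.symm⟩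

variable [PreservesFiniteLimits (pb J K fn)]

/-- two sections are locally given over a common object -/
lemma loc_rep₂ {U : C} (s t : (inv J fn G).obj.obj (op U)) :
    Loc J U fun U' g => ∃ (W : D) (k : U' ⟶ fn.obj W) (a b : G.obj.obj (op W)),
      res _ g s = q fn G k a ∧ res _ g t = q fn G k b := by
  refine (loc_rep s).bind ?_
  rintro U₁ g ⟨W₁, k₁, m₁, h₁⟩
  refine (loc_rep (res _ g t)).bind ?_
  rintro U₂ g' ⟨W₂, k₂, m₂, h₂⟩
  refine (loc_pair (K := K) fn (g' ≫ k₁) k₂).mono ?_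
  rintro U₃ g'' ⟨W, k, l₁, l₂, e₁, e₂⟩
  refine ⟨W, k, G.obj.map l₁.op m₁, G.obj.map l₂.op m₂, ?_, ?_⟩
  · rw [q_map, e₁, ← res_q, ← res_q, ← h₁]
    simp only [res_comp, assoc]
  · rw [q_map, e₂, ← res_q, ← h₂]
    simp only [res_comp, assoc]

/-- equality in the inverse image is witnessed locally -/
theorem loc_inj {U : C} {W : D} (k : U ⟶ fn.obj W) (m m' : G.obj.obj (op W))
    (h : q (J := J) fn G k m = q fn G k m') :
    Loc J U fun U' g => ∃ (W' : D) (r : W' ⟶ W) (k' : U' ⟶ fn.obj W'),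
      k' ≫ fn.map r = g ≫ k ∧ G.obj.map r.op m = G.obj.map r.op m' := by
  let u₁ : rep K W ⟶ G := PullFlat.lift m
  let u₂ : rep K W ⟶ G := PullFlat.lift m'
  let sk := ((pb J K fn).obj (rep K W)).obj.map k.op (ev J K fn _ W (univ K W))
  have hs : ∀ (x : G.obj.obj (op W)), ((pb J K fn).map (PullFlat.lift x)).hom.app (op U) sk = q (J := J) fn G k x := fun x => by
    simp only [sk, NatTrans.naturality_apply, ev_map, lift_univ]
    rfl
  have hu : PullFlat.lift sk ≫ (pb J K fn).map u₁ = PullFlat.lift sk ≫ (pb J K fn).map u₂ := by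
    apply rep_hom_ext
    change ((pb J K fn).map u₁).hom.app (op U) ((PullFlat.lift sk).hom.app (op U) (univ J U)) =
      ((pb J K fn).map u₂).hom.app (op U) ((PullFlat.lift sk).hom.app (op U) (univ J U))
    rw [lift_univ, hs m, hs m', h]
  let σ : rep J U ⟶ (pb J K fn).obj (equalizer u₁ u₂) :=
    equalizer.lift (PullFlat.lift sk) hu ≫ CategoryTheory.inv (equalizerComparison u₁ u₂ (pb J K fn))
  let s := σ.hom.app (op U) (univ J U)
  have hs' : ((pb J K fn).map (equalizer.ι u₁ u₂)).hom.app (op U) s = sk := by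
    have : σ ≫ (pb J K fn).map (equalizer.ι u₁ u₂) = PullFlat.lift sk := by
      simp only [σ, assoc]
      rw [show CategoryTheory.inv (equalizerComparison u₁ u₂ (pb J K fn)) ≫ (pb J K fn).map (equalizer.ι u₁ u₂) = equalizer.ι _ _ by
        rw [IsIso.inv_comp_eq, equalizerComparison_comp_π]]
      exact equalizer.lift_ι _ _
    exact (ConcreteCategory.congr_hom (congrArg (fun τ => τ.hom.app (op U)) this) _).trans (lift_univ sk)
  refine (pb_loc_surj fn _ s).bind ?_
  rintro U₁ g ⟨W₁, k₁, x, hx⟩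
  obtain ⟨R, hR, hl⟩ := rep_loc_surj ((equalizer.ι u₁ u₂).hom.app (op W₁) x)
  refine (loc_lift fn k₁ hR).bind ?_
  rintro U₂ g' ⟨W', r, k', hr, hk'⟩
  obtain ⟨l, el⟩ := hl r hr
  have key : ((pb J K fn).obj (rep K W)).obj.map k'.op (ev J K fn (rep K W) W' ((rep K W).obj.map l.op (univ K W))) =
      ((pb J K fn).obj (rep K W)).obj.map ((g' ≫ g) ≫ k).op (ev J K fn (rep K W) W (univ K W)) := by
    rw [el, ← ev_res, ← ev_map]
    have h3 := congrArg (fun z => ((pb J K fn).map (equalizer.ι u₁ u₂)).hom.app (op U₂)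
      (((pb J K fn).obj _).obj.map g'.op z)) hx
    simp only [NatTrans.naturality_apply] at h3
    rw [hs'] at h3
    simp only [sk, ← Functor.map_comp_apply, ← op_comp, ← assoc] at h3 ⊢
    rw [hk']
    exact h3
  have he : G.obj.map l.op m = G.obj.map l.op m' := by
    have h4 : u₁.hom.app (op W') ((rep K W).obj.map r.op ((equalizer.ι u₁ u₂).hom.app (op W₁) x)) =
        u₂.hom.app (op W') ((rep K W).obj.map r.op ((equalizer.ι u₁ u₂).hom.app (op W₁) x)) := by
      simp only [NatTrans.naturality_apply]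
      exact congrArg _ (ConcreteCategory.congr_hom (congrArg (fun τ : equalizer u₁ u₂ ⟶ G => τ.hom.app (op W₁)) (equalizer.condition u₁ u₂)) x)
    rw [← el] at h4
    simpa only [u₁, u₂, lift_app] using h4
  refine (loc_eq fn ((g' ≫ g) ≫ k) k' l key).mono fun U₃ g₁ e => ?_
  refine ⟨W', l, g₁ ≫ k', ?_, he⟩
  simp only [assoc] at e ⊢
  rw [e]

/-- compatible binary operations agree on equal representatives -/
lemma op_indep (op₂ : ∀ W : D, G.obj.obj (op W) → G.obj.obj (op W) → G.obj.obj (op W))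
    (hop : ∀ {W W' : D} (r : W' ⟶ W) (a b : G.obj.obj (op W)),
      G.obj.map r.op (op₂ W a b) = op₂ W' (G.obj.map r.op a) (G.obj.map r.op b))
    {U : C} {W W' : D} {k : U ⟶ fn.obj W} {k' : U ⟶ fn.obj W'} {a b : G.obj.obj (op W)} {a' b' : G.obj.obj (op W')}
    (ha : q (J := J) fn G k a = q fn G k' a') (hb : q (J := J) fn G k b = q fn G k' b') :
    q (J := J) fn G k (op₂ W a b) = q fn G k' (op₂ W' a' b') := by
  refine sext ((loc_pair (K := K) fn k k').bind ?_)
  rintro U₁ g ⟨W₁, k₁, l, l', e, e'⟩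
  have h : ∀ {x : G.obj.obj (op W)} {y : G.obj.obj (op W')}, q (J := J) fn G k x = q fn G k' y →
      q (J := J) fn G k₁ (G.obj.map l.op x) = q fn G k₁ (G.obj.map l'.op y) := fun {x y} hxy => by
    rw [q_map, q_map, e, e', ← res_q, ← res_q, hxy]
  refine (loc_inj k₁ _ _ (h ha)).bind ?_
  rintro U₂ g' ⟨W₂, r, k₂, e₂, ea⟩
  have hb' : q (J := J) fn G k₂ (G.obj.map r.op (G.obj.map l.op b)) = q fn G k₂ (G.obj.map r.op (G.obj.map l'.op b')) := by
    rw [q_map, q_map (r := r), e₂, ← res_q, ← res_q, h hb]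
  refine (loc_inj k₂ _ _ hb').mono ?_
  rintro U₃ g'' ⟨W₃, r', k₃, e₃, eb⟩
  have hk : k₃ ≫ fn.map r' ≫ fn.map r ≫ fn.map l = (g'' ≫ g' ≫ g) ≫ k := by
    rw [reassoc_of% e₃, reassoc_of% e₂, e]
    simp only [assoc]
  have hk' : k₃ ≫ fn.map r' ≫ fn.map r ≫ fn.map l' = (g'' ≫ g' ≫ g) ≫ k' := by
    rw [reassoc_of% e₃, reassoc_of% e₂, e']
    simp only [assoc]
  simp only [res_q, assoc] at hk hk' ⊢
  rw [← hk, ← hk']
  simp only [← assoc, ← q_map]
  simp only [hop, ea, eb]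

section Binop

variable (op₂ : ∀ W : D, G.obj.obj (op W) → G.obj.obj (op W) → G.obj.obj (op W))
  (hop : ∀ {W W' : D} (r : W' ⟶ W) (a b : G.obj.obj (op W)),
    G.obj.map r.op (op₂ W a b) = op₂ W' (G.obj.map r.op a) (G.obj.map r.op b))

/-- the relation defining the operation -/
def OpRel {U : C} (s t : (inv J fn G).obj.obj (op U)) {V : C} (g : V ⟶ U) (x : (inv J fn G).obj.obj (op V)) : Prop :=
  ∃ (W : D) (k : V ⟶ fn.obj W) (a b : G.obj.obj (op W)),
    res _ g s = q fn G k a ∧ res _ g t = q fn G k b ∧ x = q fn G k (op₂ W a b)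

include hop in
lemma exists_binop {U : C} (s t : (inv J fn G).obj.obj (op U)) :
    ∃ u, Loc J U fun _ g => OpRel op₂ s t g (res _ g u) := by
  refine sglue ((loc_rep₂ s t).mono fun V g ⟨W, k, a, b, ha, hb⟩ => ⟨_, W, k, a, b, ha, hb, rfl⟩) ?_ ?_
  · rintro V W' g h x ⟨W, k, a, b, ha, hb, rfl⟩
    exact ⟨W, h ≫ k, a, b, by rw [← res_comp, ha, res_q], by rw [← res_comp, hb, res_q], res_q _ _ _⟩
  · rintro V g x y ⟨W, k, a, b, ha, hb, rfl⟩ ⟨W', k', a', b', ha', hb', rfl⟩
    exact op_indep op₂ hop (ha.symm.trans ha') (hb.symm.trans hb')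

/-- the operation induced on the inverse image -/
noncomputable def binop {U : C} (s t : (inv J fn G).obj.obj (op U)) : (inv J fn G).obj.obj (op U) :=
  (exists_binop op₂ hop s t).choose

lemma binop_q {U : C} {W : D} (k : U ⟶ fn.obj W) (a b : G.obj.obj (op W)) :
    binop (J := J) op₂ hop (q fn G k a) (q fn G k b) = q fn G k (op₂ W a b) := by
  refine sext ((exists_binop op₂ hop (q fn G k a) (q fn G k b)).choose_spec.mono ?_)
  rintro V g ⟨W', k', a', b', ha, hb, hx⟩
  rw [res_q] at ha hb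
  refine hx.trans ?_
  rw [res_q]
  exact op_indep op₂ hop ha.symm hb.symm

lemma binop_res {U V : C} (g : V ⟶ U) (s t : (inv J fn G).obj.obj (op U)) :
    res _ g (binop op₂ hop s t) = binop op₂ hop (res _ g s) (res _ g t) := by
  refine sext ((loc_rep₂ (res _ g s) (res _ g t)).bind ?_)
  rintro V₁ g₁ ⟨W, k, a, b, ha, hb⟩
  obtain ⟨S, hS, hS'⟩ := (exists_binop op₂ hop s t).choose_spec
  obtain ⟨T, hT, hT'⟩ := (exists_binop op₂ hop (res _ g s) (res _ g t)).choose_spec
  refine ⟨S.pullback (g₁ ≫ g) ⊓ T.pullback g₁,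
    J.intersection_covering (J.pullback_stable _ hS) (J.pullback_stable _ hT), ?_⟩
  rintro V₂ g₂ ⟨h₁, h₂⟩
  obtain ⟨W₁, k₁, a₁, b₁, ha₁, hb₁, hx₁⟩ := hS' _ h₁
  obtain ⟨W₂, k₂, a₂, b₂, ha₂, hb₂, hx₂⟩ := hT' _ h₂
  rw [res_comp] at ha₂ hb₂
  simp only [assoc] at ha₁ hb₁ hx₁ ha₂ hb₂ hx₂
  change res _ (g₂ ≫ g₁) (res _ g (binop op₂ hop s t)) = res _ (g₂ ≫ g₁) (binop op₂ hop (res _ g s) (res _ g t))
  simp only [binop, res_comp, assoc]
  rw [hx₁, hx₂]
  exact op_indep op₂ hop (ha₁.symm.trans ha₂) (hb₁.symm.trans hb₂)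

end Binop

/-- the section induced by a compatible family of global elements -/
lemma exists_const (z : ∀ W : D, G.obj.obj (op W)) (hz : ∀ {W W' : D} (r : W' ⟶ W), G.obj.map r.op (z W) = z W') (U : C) :
    ∃ u : (inv J fn G).obj.obj (op U), ∀ {V : C} (g : V ⟶ U) {W : D} (k : V ⟶ fn.obj W), res _ g u = q fn G k (z W) := by
  have huniq : ∀ {V : C} {W W' : D} (k : V ⟶ fn.obj W) (k' : V ⟶ fn.obj W'),
      q (J := J) fn G k (z W) = q fn G k' (z W') := fun {V W W'} k k' => sext ((loc_pair (K := K) fn k k').mono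
    fun V₁ g ⟨W₁, k₁, l, l', e, e'⟩ => by rw [res_q, res_q, ← e, ← e', ← q_map, ← q_map, hz, hz])
  obtain ⟨u, hu⟩ := sglue (F := inv J fn G) (U := U) (P := fun V _ x => ∃ (W : D) (k : V ⟶ fn.obj W), x = q fn G k (z W))
    ((loc_nonempty (K := K) fn U).mono fun V g ⟨W, ⟨k⟩⟩ => ⟨_, W, k, rfl⟩)
    (fun V V' g h x ⟨W, k, hx⟩ => ⟨W, h ≫ k, by rw [hx, res_q]⟩)
    (fun V g x y ⟨W, k, hx⟩ ⟨W', k', hy⟩ => hx.trans ((huniq k k').trans hy.symm))
  refine ⟨u, fun {V} g {W} k => sext ?_⟩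
  obtain ⟨S, hS, hS'⟩ := hu
  refine (Loc.of_mem (J.pullback_stable g hS)).mono fun V₁ g₁ hg => ?_
  obtain ⟨W', k', hk⟩ := hS' _ hg
  rw [res_comp, hk, res_q]
  exact huniq _ _

end Groth.Agent.PullRing
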